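import Mathlib

/-!
# Absorption lemmas for an ideal `I` with `I = s I`
-/

namespace Groth.Agent.Helper9.ValEt

variable {R : Type*} [CommRing R] (s : R) (I : Ideal R)

/-- `I = s I` -/
def Divisible : Prop := ∀ a ∈ I, ∃ a' ∈ I, a = s * a'

variable {s I}

lemma Divisible.pow (h : Divisible s I) (n : ℕ) : ∀ a ∈ I, ∃ a' ∈ I, a = s ^ n * a' := by
  induction n with
  | zero => intro a ha; exact ⟨a, ha, by simp⟩
  | succ n ih =>
    intro a ha
    obtain ⟨a', ha', rfl⟩ := ih a ha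
    obtain ⟨a'', ha'', rfl⟩ := h a' ha'
    exact ⟨a'', ha'', by ring⟩

variable {M : Type*} [AddCommGroup M] [Module R M]

lemma Divisible.smul_top (h : Divisible s I) (n : ℕ) (z : M)
    (hz : z ∈ I • (⊤ : Submodule R M)) : ∃ z' ∈ I • (⊤ : Submodule R M), z = s ^ n • z' := by
  refine Submodule.smul_induction_on hz ?_ ?_
  · intro a ha m _
    obtain ⟨a', ha', rfl⟩ := h.pow n a ha
    exact ⟨a' • m, Submodule.smul_mem_smul ha' Submodule.mem_top, by rw [mul_smul]⟩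
  · rintro x y ⟨x', hx', rfl⟩ ⟨y', hy', rfl⟩
    exact ⟨x' + y', Submodule.add_mem _ hx' hy', by rw [smul_add]⟩

lemma Divisible.absorb (h : Divisible s I) (N N' : Submodule R M)
    (hN : ∀ m ∈ N', ∃ n : ℕ, s ^ n • m ∈ N) : I • N' ≤ N := by
  rw [Submodule.smul_le]
  intro a ha m hm
  obtain ⟨n, hn⟩ := hN m hm
  obtain ⟨a', -, rfl⟩ := h.pow n a ha
  rw [mul_comm, mul_smul]
  exact N.smul_mem _ hn

end Groth.Agent.Helper9.ValEt
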