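import Mathlib
import Groth.Agent.Lib.Helper9.ValEt.Absorb

/-!
# Gluing étaleness for valuation rings: preliminary steps
-/

namespace Groth.Agent.Helper9.ValEt

universe u

/-- In a ring with finite spectrum, for a prime `P` there is `g ∉ P` such that every `r ∉ P`
divides a power of `g`. -/
theorem exists_dvd_pow (B : Type*) [CommRing B] [Finite (PrimeSpectrum B)] (P : Ideal B)
    [P.IsPrime] : ∃ g ∉ P, ∀ r ∉ P, ∃ n : ℕ, r ∣ g ^ n := by
  let P' : PrimeSpectrum B := ⟨P, inferInstance⟩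
  let U : Set (PrimeSpectrum B) := {Q | Q ≤ P'}
  have hU : IsOpen U := by
    rw [← isClosed_compl_iff]
    have : Uᶜ = ⋃ Q ∈ Uᶜ, closure {Q} := by
      ext Q'
      simp only [Set.mem_iUnion]
      constructor
      · intro h; exact ⟨Q', h, subset_closure rfl⟩
      · rintro ⟨Q, hQ, hQ'⟩
        rw [← specializes_iff_mem_closure, ← PrimeSpectrum.le_iff_specializes] at hQ'
        intro h; exact hQ (le_trans hQ' h)
    rw [this]
    exact (Set.toFinite _).isClosed_biUnion fun _ _ => isClosed_closure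
  obtain ⟨_, ⟨g, rfl⟩, hPg, hgU⟩ :=
    PrimeSpectrum.isTopologicalBasis_basic_opens.exists_subset_of_mem_open
      (show P' ∈ U from le_refl P') hU
  have hgP : g ∉ P := hPg
  refine ⟨g, hgP, ?_⟩
  intro r hr
  have h₂ : IsUnit (algebraMap B (Localization.Away g) r) := by
    by_contra hnu
    obtain ⟨m, hm, hrm⟩ := exists_max_ideal_of_mem_nonunits hnu
    have hmp : m.IsPrime := hm.isPrime
    let Q : PrimeSpectrum B := ⟨m.comap (algebraMap B (Localization.Away g)), inferInstance⟩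
    have hgQ : Q ∈ (PrimeSpectrum.basicOpen g : Set (PrimeSpectrum B)) := by
      intro hg
      have hu : IsUnit (algebraMap B (Localization.Away g) g) :=
        IsLocalization.Away.algebraMap_isUnit g
      exact hm.ne_top (Ideal.eq_top_of_isUnit_mem _ hg hu)
    have hQP : Q ≤ P' := hgU hgQ
    exact hr (hQP hrm)
  obtain ⟨m, ⟨n, rfl⟩, hm⟩ :=
    (IsLocalization.algebraMap_isUnit_iff (Submonoid.powers g) (S := Localization.Away g)).mp h₂
  exact ⟨n, hm⟩

section Val

variable {V : Type*} [CommRing V] [IsDomain V] [ValuationRing V]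

lemma divisible_of_notMem (p : Ideal V) [hp : p.IsPrime] (s : V) (hs : s ∉ p) :
    Divisible s p := by
  intro a ha
  rcases ValuationRing.dvd_total s a with ⟨c, rfl⟩ | ⟨c, hc⟩
  · exact ⟨c, (hp.mem_or_mem ha).resolve_left hs, rfl⟩
  · exfalso; apply hs; rw [hc]; exact p.mul_mem_right _ ha

/-- The largest prime ideal not containing `σ` (for `σ ≠ 0`). -/
def bigPrime (σ : V) (hσ : σ ≠ 0) : Ideal V where
  carrier := {y | ∀ n : ℕ, ¬ y ∣ σ ^ n}
  zero_mem' := by
    intro n h
    exact pow_ne_zero n hσ (zero_dvd_iff.mp h)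
  add_mem' := by
    intro a b ha hb n h
    rcases ValuationRing.dvd_total a b with ⟨c, rfl⟩ | ⟨c, rfl⟩
    · exact ha n (Dvd.dvd.trans ⟨1 + c, by ring⟩ h)
    · exact hb n (Dvd.dvd.trans ⟨c + 1, by ring⟩ h)
  smul_mem' := by
    intro c a ha n h
    exact ha n (Dvd.dvd.trans ⟨c, by rw [smul_eq_mul, mul_comm]⟩ h)

lemma mem_bigPrime {σ : V} {hσ : σ ≠ 0} {y : V} :
    y ∈ bigPrime σ hσ ↔ ∀ n : ℕ, ¬ y ∣ σ ^ n := Iff.rfl

instance bigPrime_isPrime (σ : V) (hσ : σ ≠ 0) : (bigPrime σ hσ).IsPrime := by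
  refine ⟨?_, ?_⟩
  · rw [Ne, Ideal.eq_top_iff_one]
    intro h
    exact h 0 (one_dvd _)
  · intro a b hab
    by_contra hcon
    push Not at hcon
    obtain ⟨ha, hb⟩ := hcon
    simp only [mem_bigPrime, not_forall, not_not] at ha hb
    obtain ⟨n, hn⟩ := ha
    obtain ⟨m, hm⟩ := hb
    exact hab (n + m) (by rw [pow_add]; exact mul_dvd_mul hn hm)

end Val

end Groth.Agent.Helper9.ValEt
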