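import Mathlib
import Groth.Agent.Lib.Helper9.ValEt.Core1

/-!
# Gluing étaleness for valuation rings: divisibility facts
-/

namespace Groth.Agent.Helper9.ValEt

universe u

section Glue

variable {V W : Type u} [CommRing V] [IsDomain V] [ValuationRing V]
  [CommRing W] [IsDomain W] [ValuationRing W] [Algebra V W]

omit [IsDomain V] [ValuationRing V] in
/-- F1 -/
theorem dvd_pow_of_notMem (hinj : Function.Injective (algebraMap V W))
    (P : Ideal W) [P.IsPrime] (p : Ideal V) [p.IsPrime] (hp : P.comap (algebraMap V W) = p)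
    (s : V) (hs : s ∉ p) (hsdvd : ∀ x ∉ p, ∃ n : ℕ, x ∣ s ^ n)
    (φB : V ⧸ p →+* W ⧸ P)
    (hφB : ∀ v, φB (Ideal.Quotient.mk p v) = Ideal.Quotient.mk P (algebraMap V W v))
    (hB : φB.Etale) :
    ∀ y ∉ P, ∃ n : ℕ, y ∣ (algebraMap V W s) ^ n := by
  have hs0 : s ≠ 0 := fun h => hs (h ▸ p.zero_mem)
  have hσ : algebraMap V W s ≠ 0 := fun h => hs0 (hinj (h.trans (map_zero _).symm))
  set Q := bigPrime (algebraMap V W s) hσ with hQ
  have hPQ : P ≤ Q := by
    intro y hy n hdvd
    have h1 : (algebraMap V W s) ^ n ∈ P := Ideal.mem_of_dvd P hdvd hy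
    have h2 : algebraMap V W s ∈ P := Ideal.IsPrime.mem_of_pow_mem ‹_› n h1
    exact hs (hp ▸ (Ideal.mem_comap.mpr h2))
  have hQp : ∀ v : V, algebraMap V W v ∈ Q ↔ v ∈ p := by
    intro v
    constructor
    · intro hv
      by_contra hvp
      obtain ⟨n, hn⟩ := hsdvd v hvp
      have := map_dvd (algebraMap V W) hn
      rw [map_pow] at this
      exact hv n this
    · intro hv
      apply hPQ
      rw [← hp] at hv
      exact hv
  algebraize [φB]
  have hQF : Algebra.QuasiFinite (V ⧸ p) (W ⧸ P) := inferInstance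
  have hker : RingHom.ker (Ideal.Quotient.mk P) ≤ Q := by rw [Ideal.mk_ker]; exact hPQ
  have hQ'prime : (Q.map (Ideal.Quotient.mk P)).IsPrime :=
    Ideal.map_isPrime_of_surjective Ideal.Quotient.mk_surjective hker
  have hbot : (⊥ : Ideal (W ⧸ P)).IsPrime := Ideal.isPrime_bot
  have hunder : (⊥ : Ideal (W ⧸ P)).under (V ⧸ p) = (Q.map (Ideal.Quotient.mk P)).under (V ⧸ p) := by
    ext x
    obtain ⟨v, rfl⟩ := Ideal.Quotient.mk_surjective x
    simp only [Ideal.under, Ideal.mem_comap]
    have h1 : algebraMap (V ⧸ p) (W ⧸ P) (Ideal.Quotient.mk p v) =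
        Ideal.Quotient.mk P (algebraMap V W v) := hφB v
    rw [h1, Ideal.mem_bot, Ideal.Quotient.eq_zero_iff_mem, Ideal.mem_quotient_iff_mem hPQ, hQp]
    rw [← hp, Ideal.mem_comap]
  have heq : (⊥ : Ideal (W ⧸ P)) = Q.map (Ideal.Quotient.mk P) :=
    Algebra.QuasiFinite.eq_of_le_of_under_eq (R := V ⧸ p) _ _ bot_le hunder
  intro y hy
  have hyQ : y ∉ Q := by
    intro hyQ
    apply hy
    have : Ideal.Quotient.mk P y ∈ Q.map (Ideal.Quotient.mk P) := Ideal.mem_map_of_mem _ hyQ
    rw [← heq, Ideal.mem_bot, Ideal.Quotient.eq_zero_iff_mem] at this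
    exact this
  rw [hQ, mem_bigPrime] at hyQ
  push Not at hyQ
  exact hyQ

omit [ValuationRing W] in
/-- F3 -/
theorem eq_map_of_etale (hinj : Function.Injective (algebraMap V W))
    (P : Ideal W) [P.IsPrime] (p : Ideal V) [p.IsPrime] (hp : P.comap (algebraMap V W) = p)
    (s : V) (hs : s ∉ p)
    (hF1 : ∀ y ∉ P, ∃ n : ℕ, y ∣ (algebraMap V W s) ^ n)
    (φA : Localization.AtPrime p →+* Localization.AtPrime P)
    (hφA : ∀ v, φA (algebraMap V _ v) = algebraMap W _ (algebraMap V W v)) (hA : φA.Etale) :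
    P = p.map (algebraMap V W) := by
  have hs0 : s ≠ 0 := fun h => hs (h ▸ p.zero_mem)
  have hσ : algebraMap V W s ≠ 0 := fun h => hs0 (hinj (h.trans (map_zero _).symm))
  have hle : p.map (algebraMap V W) ≤ P := by
    rw [Ideal.map_le_iff_le_comap, hp]
  refine le_antisymm ?_ hle
  algebraize [φA]
  have hcomp : (algebraMap (Localization.AtPrime p) (Localization.AtPrime P)).comp
      (algebraMap V (Localization.AtPrime p)) =
      (algebraMap W (Localization.AtPrime P)).comp (algebraMap V W) := by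
    ext v; exact hφA v
  have hmapmax : (IsLocalRing.maximalIdeal (Localization.AtPrime p)).map
      (algebraMap (Localization.AtPrime p) (Localization.AtPrime P)) =
      (p.map (algebraMap V W)).map (algebraMap W (Localization.AtPrime P)) := by
    rw [← Localization.AtPrime.map_eq_maximalIdeal, Ideal.map_map, hcomp, ← Ideal.map_map]
  have hlocal : IsLocalHom (algebraMap (Localization.AtPrime p) (Localization.AtPrime P)) := by
    apply ((IsLocalRing.local_hom_TFAE _).out 2 0).mp
    rw [hmapmax, ← Localization.AtPrime.map_eq_maximalIdeal]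
    exact Ideal.map_mono hle
  have hmax := Algebra.FormallyUnramified.map_maximalIdeal (R := Localization.AtPrime p)
    (S := Localization.AtPrime P)
  intro x hx
  have hx1 : algebraMap W (Localization.AtPrime P) x ∈
      IsLocalRing.maximalIdeal (Localization.AtPrime P) := by
    rw [← Localization.AtPrime.map_eq_maximalIdeal]
    exact Ideal.mem_map_of_mem _ hx
  rw [← hmax, hmapmax, IsLocalization.mem_map_algebraMap_iff P.primeCompl] at hx1
  obtain ⟨⟨⟨a, ha⟩, ⟨m, hm⟩⟩, h⟩ := hx1
  simp only at h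
  rw [← map_mul] at h
  have hxm : x * m = a := IsLocalization.injective (Localization.AtPrime P)
    P.primeCompl_le_nonZeroDivisors h
  obtain ⟨n, c, hc⟩ := hF1 m hm
  have h1 : (algebraMap V W s) ^ n * x ∈ p.map (algebraMap V W) := by
    have : (algebraMap V W s) ^ n * x = c * a := by rw [hc, ← hxm]; ring
    rw [this]
    exact Ideal.mul_mem_left _ _ ha
  have hdiv : Divisible s p := divisible_of_notMem p s hs
  have h2 : (algebraMap V W s) ^ n * x ∈ p • (⊤ : Submodule V W) := by
    rw [Ideal.smul_top_eq_map]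
    exact h1
  obtain ⟨z', hz', hz⟩ := hdiv.smul_top n _ h2
  have h3 : x = z' := by
    have : (algebraMap V W s) ^ n * (x - z') = 0 := by
      rw [mul_sub, hz, Algebra.smul_def, map_pow, sub_self]
    rcases mul_eq_zero.mp this with h | h
    · exact absurd h (pow_ne_zero n hσ)
    · exact sub_eq_zero.mp h
  rw [h3]
  rw [Ideal.smul_top_eq_map] at hz'
  exact hz'

end Glue

end Groth.Agent.Helper9.ValEt
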