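import Mathlib
import Groth.Agent.Lib.Helper9.ValEt.Core2

/-!
# Gluing étaleness for valuation rings: finite type
-/

namespace Groth.Agent.Helper9.ValEt

universe u

section Glue

variable {V W : Type u} [CommRing V] [IsDomain V] [ValuationRing V]
  [CommRing W] [IsDomain W] [Algebra V W]

omit [IsDomain V] [ValuationRing V] [IsDomain W] in
/-- clearing denominators in `W_P` by powers of `s` -/
theorem exists_pow_mul_eq (P : Ideal W) [P.IsPrime] (s : V)
    (hF1 : ∀ y ∉ P, ∃ n : ℕ, y ∣ (algebraMap V W s) ^ n) (g : Localization.AtPrime P) :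
    ∃ (w : W) (n : ℕ), algebraMap W (Localization.AtPrime P) w =
      (algebraMap W (Localization.AtPrime P) (algebraMap V W s)) ^ n * g := by
  obtain ⟨⟨w0, ⟨y, hy⟩⟩, h⟩ := IsLocalization.surj P.primeCompl g
  simp only at h
  obtain ⟨n, c, hc⟩ := hF1 y hy
  refine ⟨c * w0, n, ?_⟩
  rw [← map_pow, hc, map_mul, map_mul, ← h]
  ring

theorem finiteType_of_glue
    (P : Ideal W) [P.IsPrime] (p : Ideal V) [p.IsPrime]
    (s : V) (hs : s ∉ p) (hsdvd : ∀ x ∉ p, ∃ n : ℕ, x ∣ s ^ n)
    (hF1 : ∀ y ∉ P, ∃ n : ℕ, y ∣ (algebraMap V W s) ^ n)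
    (hF3 : P = p.map (algebraMap V W))
    [Algebra (Localization.AtPrime p) (Localization.AtPrime P)]
    (hφA : ∀ v, algebraMap (Localization.AtPrime p) (Localization.AtPrime P)
      (algebraMap V _ v) = algebraMap W _ (algebraMap V W v))
    [Algebra.FiniteType (Localization.AtPrime p) (Localization.AtPrime P)]
    [Algebra (V ⧸ p) (W ⧸ P)]
    (hφB : ∀ v, algebraMap (V ⧸ p) (W ⧸ P) (Ideal.Quotient.mk p v) =
      Ideal.Quotient.mk P (algebraMap V W v))
    [Algebra.FiniteType (V ⧸ p) (W ⧸ P)] :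
    Algebra.FiniteType V W := by
  classical
  set σ := algebraMap V W s with hσdef
  set ι := algebraMap W (Localization.AtPrime P) with hι
  have hιinj : Function.Injective ι :=
    IsLocalization.injective (Localization.AtPrime P) P.primeCompl_le_nonZeroDivisors
  -- generators of `W_P`
  obtain ⟨G, hG⟩ := (Algebra.FiniteType.out :
    (⊤ : Subalgebra (Localization.AtPrime p) (Localization.AtPrime P)).FG)
  choose wOf nOf hwn using exists_pow_mul_eq P s hF1
  let G' : Finset W := G.image wOf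
  -- generators of `W/P`
  obtain ⟨G2, hG2⟩ := (Algebra.FiniteType.out : (⊤ : Subalgebra (V ⧸ p) (W ⧸ P)).FG)
  let lift : W ⧸ P → W := Function.surjInv Ideal.Quotient.mk_surjective
  have hlift : ∀ z, Ideal.Quotient.mk P (lift z) = z :=
    Function.surjInv_eq Ideal.Quotient.mk_surjective
  let G2' : Finset W := G2.image lift
  let C : Subalgebra V W := Algebra.adjoin V ((G' ∪ G2' : Finset W) : Set W)
  have hG'C : ∀ g ∈ G, wOf g ∈ C := fun g hg =>
    Algebra.subset_adjoin (by
      rw [Finset.coe_union]; exact Or.inl (Finset.mem_coe.mpr (Finset.mem_image_of_mem _ hg)))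
  have hG2'C : ∀ g ∈ G2, lift g ∈ C := fun g hg =>
    Algebra.subset_adjoin (by
      rw [Finset.coe_union]; exact Or.inr (Finset.mem_coe.mpr (Finset.mem_image_of_mem _ hg)))
  -- Claim 4a
  have h4a : ∀ z : Localization.AtPrime P, ∃ n : ℕ, ∃ c ∈ C, (ι σ) ^ n * z = ι c := by
    intro z
    have hz : z ∈ Algebra.adjoin (Localization.AtPrime p) (G : Set (Localization.AtPrime P)) := by
      rw [hG]; trivial
    induction hz using Algebra.adjoin_induction with
    | mem x hx => exact ⟨nOf x, wOf x, hG'C x hx, (hwn x).symm⟩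
    | algebraMap r =>
      obtain ⟨⟨v, ⟨x, hx⟩⟩, h⟩ := IsLocalization.surj p.primeCompl r
      simp only at h
      obtain ⟨n, x', hx'⟩ := hsdvd x hx
      refine ⟨n, algebraMap V W (x' * v), Subalgebra.algebraMap_mem _ _, ?_⟩
      have h1 := congrArg (algebraMap (Localization.AtPrime p) (Localization.AtPrime P)) h
      rw [map_mul, hφA, hφA] at h1
      rw [← map_pow, hσdef, ← map_pow, hx', map_mul, map_mul, map_mul, map_mul, ← h1]
      ring
    | add x y _ _ hx hy =>
      obtain ⟨n1, c1, hc1, h1⟩ := hx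
      obtain ⟨n2, c2, hc2, h2⟩ := hy
      refine ⟨n1 + n2, σ ^ n2 * c1 + σ ^ n1 * c2,
        C.add_mem (C.mul_mem (C.pow_mem (C.algebraMap_mem s) _) hc1)
          (C.mul_mem (C.pow_mem (C.algebraMap_mem s) _) hc2), ?_⟩
      rw [map_add, map_mul, map_mul, map_pow, map_pow, ← h1, ← h2, pow_add]
      ring
    | mul x y _ _ hx hy =>
      obtain ⟨n1, c1, hc1, h1⟩ := hx
      obtain ⟨n2, c2, hc2, h2⟩ := hy
      refine ⟨n1 + n2, c1 * c2, C.mul_mem hc1 hc2, ?_⟩
      rw [map_mul, ← h1, ← h2, pow_add]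
      ring
  -- Claim 4b
  have h4b : ∀ z : W ⧸ P, ∃ c ∈ C, Ideal.Quotient.mk P c = z := by
    intro z
    have hz : z ∈ Algebra.adjoin (V ⧸ p) (G2 : Set (W ⧸ P)) := by rw [hG2]; trivial
    induction hz using Algebra.adjoin_induction with
    | mem x hx => exact ⟨lift x, hG2'C x hx, hlift x⟩
    | algebraMap r =>
      obtain ⟨v, rfl⟩ := Ideal.Quotient.mk_surjective r
      exact ⟨algebraMap V W v, C.algebraMap_mem v, (hφB v).symm⟩
    | add x y _ _ hx hy =>
      obtain ⟨c1, hc1, rfl⟩ := hx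
      obtain ⟨c2, hc2, rfl⟩ := hy
      exact ⟨c1 + c2, C.add_mem hc1 hc2, map_add _ _ _⟩
    | mul x y _ _ hx hy =>
      obtain ⟨c1, hc1, rfl⟩ := hx
      obtain ⟨c2, hc2, rfl⟩ := hy
      exact ⟨c1 * c2, C.mul_mem hc1 hc2, map_mul _ _ _⟩
  -- absorb
  have hdiv : Divisible s p := divisible_of_notMem p s hs
  have habs : p • (⊤ : Submodule V W) ≤ Subalgebra.toSubmodule C := by
    apply hdiv.absorb
    intro m _
    obtain ⟨n, c, hc, h⟩ := h4a (ι m)
    refine ⟨n, ?_⟩
    have : s ^ n • m = c := by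
      apply hιinj
      rw [Algebra.smul_def, map_mul, map_pow, ← h, map_pow]
    rw [this]
    exact hc
  refine ⟨⟨G' ∪ G2', ?_⟩⟩
  rw [eq_top_iff]
  intro w _
  obtain ⟨c, hc, hcw⟩ := h4b (Ideal.Quotient.mk P w)
  have h1 : w - c ∈ P := by
    rw [← Ideal.Quotient.eq_zero_iff_mem, map_sub, hcw, sub_self]
  have h2 : w - c ∈ p • (⊤ : Submodule V W) := by
    rw [Ideal.smul_top_eq_map, ← hF3]
    exact h1
  have h3 : w - c ∈ C := habs h2
  have : w = (w - c) + c := by ring
  rw [this]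
  exact C.add_mem h3 hc

end Glue

end Groth.Agent.Helper9.ValEt
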