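import Mathlib
import Groth.Agent.Lib.Helper9.ValEt.Core3
import Groth.Agent.Lib.Helper9.Warfield.Diag

/-!
# Gluing étaleness for valuation rings: finite presentation, helper lemmas
-/

namespace Groth.Agent.Helper9.ValEt

universe u

open MvPolynomial

/-- A finitely generated extended ideal is generated by images of finitely many elements. -/
theorem exists_finset_map_eq {A B : Type*} [CommRing A] [CommRing B] (f : A →+* B) (I : Ideal A)
    (h : (I.map f).FG) :
    ∃ F : Finset A, (F : Set A) ⊆ I ∧ (Ideal.span (F : Set A)).map f = I.map f := by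
  classical
  have h' : (Submodule.span B (f '' (I : Set A))).FG := h
  obtain ⟨T, hT, hspan⟩ := (Submodule.fg_span_iff_fg_span_finset_subset _).mp h'
  obtain ⟨F, hF, rfl⟩ := Finset.subset_set_image_iff.mp hT
  refine ⟨F, hF, ?_⟩
  rw [Ideal.map_span]
  change Ideal.span (f '' (F : Set A)) = Ideal.span (f '' (I : Set A))
  rw [Finset.coe_image] at hspan
  exact hspan.symm

section

variable {V W : Type u} [CommRing V] [IsDomain V] [ValuationRing V]
  [CommRing W] [IsDomain W] [Algebra V W]

/-- "flatness": an element of `I ∩ pA` lies in `pI`. -/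
theorem exists_factor {m : ℕ} (π : MvPolynomial (Fin m) V →ₐ[V] W)
    (hinj : Function.Injective (algebraMap V W)) (p : Ideal V)
    (h : MvPolynomial (Fin m) V) (hp : h ∈ p.map (C : V →+* MvPolynomial (Fin m) V))
    (hπ : π h = 0) : ∃ a ∈ p, ∃ h', π h' = 0 ∧ h = C a * h' := by
  classical
  by_cases h0 : h = 0
  · exact ⟨0, p.zero_mem, 0, map_zero _, by simp [h0]⟩
  rw [MvPolynomial.mem_map_C_iff] at hp
  have hsupp : h.support.Nonempty := by
    rwa [Finset.nonempty_iff_ne_empty, Ne, MvPolynomial.support_eq_empty]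
  let S : Finset V := h.support.image (fun d => h.coeff d)
  have hS : S.Nonempty := hsupp.image _
  obtain ⟨a, haS, hadvd⟩ :=
    Groth.Agent.Helper9.Warfield.exists_min_dvd (R := V) ValuationRing.dvd_total S hS
  obtain ⟨d0, hd0, rfl⟩ := Finset.mem_image.mp haS
  have ha0 : h.coeff d0 ≠ 0 := MvPolynomial.mem_support_iff.mp hd0
  have hdvd : ∀ d, h.coeff d0 ∣ h.coeff d := by
    intro d
    by_cases hd : d ∈ h.support
    · exact hadvd _ (Finset.mem_image_of_mem _ hd)
    · rw [MvPolynomial.notMem_support_iff.mp hd]; exact dvd_zero _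
  choose b hb using hdvd
  let h' : MvPolynomial (Fin m) V := ∑ d ∈ h.support, monomial d (b d)
  have hh' : h = C (h.coeff d0) * h' := by
    rw [Finset.mul_sum]
    conv_lhs => rw [← MvPolynomial.support_sum_monomial_coeff h]
    apply Finset.sum_congr rfl
    intro d _
    rw [C_mul_monomial, ← hb d]
  refine ⟨h.coeff d0, hp d0, h', ?_, hh'⟩
  have h1 : π h = algebraMap V W (h.coeff d0) * π h' := by
    conv_lhs => rw [hh']
    rw [map_mul, ← MvPolynomial.algebraMap_eq, AlgHom.commutes]
  rw [hπ] at h1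
  rcases mul_eq_zero.mp h1.symm with h2 | h2
  · exact absurd (hinj (h2.trans (map_zero _).symm)) ha0
  · exact h2

omit [IsDomain V] [ValuationRing V] [IsDomain W] in
/-- lifting elements of `pW` to `pA` -/
theorem exists_lift_mem_map_C {m : ℕ} (π : MvPolynomial (Fin m) V →ₐ[V] W)
    (hπ : Function.Surjective π) (p : Ideal V) (z : W) (hz : z ∈ p.map (algebraMap V W)) :
    ∃ h ∈ p.map (C : V →+* MvPolynomial (Fin m) V), π h = z := by
  induction hz using Submodule.span_induction with
  | mem x hx =>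
    obtain ⟨a, ha, rfl⟩ := hx
    exact ⟨C a, Ideal.mem_map_of_mem _ ha, by rw [← MvPolynomial.algebraMap_eq, AlgHom.commutes]⟩
  | zero => exact ⟨0, Ideal.zero_mem _, map_zero _⟩
  | add x y _ _ hx hy =>
    obtain ⟨h1, hh1, rfl⟩ := hx
    obtain ⟨h2, hh2, rfl⟩ := hy
    exact ⟨h1 + h2, Ideal.add_mem _ hh1 hh2, map_add _ _ _⟩
  | smul w x _ hx =>
    obtain ⟨h1, hh1, rfl⟩ := hx
    obtain ⟨f, rfl⟩ := hπ w
    exact ⟨f * h1, Ideal.mul_mem_left _ _ hh1, by rw [map_mul, smul_eq_mul]⟩

end

end Groth.Agent.Helper9.ValEt
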