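import Mathlib
import Groth.Agent.Lib.Helper9.ValEt.Core4

/-!
# Gluing étaleness for valuation rings: finite presentation
-/

namespace Groth.Agent.Helper9.ValEt

universe u

open MvPolynomial

attribute [local instance] MvPolynomial.algebraMvPolynomial

section Glue

variable {V W : Type u} [CommRing V] [IsDomain V] [ValuationRing V]
  [CommRing W] [IsDomain W] [Algebra V W]

omit [IsDomain V] [ValuationRing V] [IsDomain W] in
/-- localization part: elements of the kernel are, up to a power of `s`, in a f.g. subideal. -/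
theorem exists_finset_loc {m : ℕ} (π : MvPolynomial (Fin m) V →ₐ[V] W)
    (P : Ideal W) [P.IsPrime] (p : Ideal V) [p.IsPrime]
    (hpinj : Function.Injective (algebraMap V (Localization.AtPrime p)))
    (hPinj : Function.Injective (algebraMap W (Localization.AtPrime P)))
    (s : V) (hs : s ∉ p) (hsdvd : ∀ x ∉ p, ∃ n : ℕ, x ∣ s ^ n)
    (hF1 : ∀ y ∉ P, ∃ n : ℕ, y ∣ (algebraMap V W s) ^ n)
    (hπ : Function.Surjective π)
    [Algebra (Localization.AtPrime p) (Localization.AtPrime P)]
    (hφA : ∀ v, algebraMap (Localization.AtPrime p) (Localization.AtPrime P)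
      (algebraMap V _ v) = algebraMap W _ (algebraMap V W v))
    [Algebra.FinitePresentation (Localization.AtPrime p) (Localization.AtPrime P)] :
    ∃ F : Finset (MvPolynomial (Fin m) V), (∀ f ∈ F, π f = 0) ∧
      ∀ f, π f = 0 → ∃ n : ℕ, C (s ^ n) * f ∈ Ideal.span (F : Set (MvPolynomial (Fin m) V)) := by
  classical
  set Vp := Localization.AtPrime p
  set WP := Localization.AtPrime P
  set ι := algebraMap W WP with hι
  let φ : MvPolynomial (Fin m) V →+* MvPolynomial (Fin m) Vp := MvPolynomial.map (algebraMap V Vp)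
  let π' : MvPolynomial (Fin m) Vp →ₐ[Vp] WP := aeval (fun i => ι (π (X i)))
  have hcomp : ∀ f, π' (φ f) = ι (π f) := by
    intro f
    have : (π' : MvPolynomial (Fin m) Vp →+* WP).comp φ = ι.comp (π : MvPolynomial (Fin m) V →+* W) := by
      apply MvPolynomial.ringHom_ext
      · intro a
        simp only [RingHom.comp_apply, φ, π', MvPolynomial.map_C, RingHom.coe_coe, aeval_C]
        rw [hφA, ← MvPolynomial.algebraMap_eq, AlgHom.commutes]
      · intro i
        simp only [RingHom.comp_apply, φ, π', MvPolynomial.map_X, RingHom.coe_coe, aeval_X]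
    exact congrArg (fun g => g f) this
  have hφinj : Function.Injective φ := MvPolynomial.map_injective _ hpinj
  -- surjectivity of π'
  have hsu : IsUnit (algebraMap V Vp s) :=
    IsLocalization.map_units Vp (⟨s, hs⟩ : p.primeCompl)
  obtain ⟨u, hu⟩ := hsu
  have hπ' : Function.Surjective π' := by
    intro g
    obtain ⟨w, n, hwn⟩ := exists_pow_mul_eq P s hF1 g
    obtain ⟨f, rfl⟩ := hπ w
    refine ⟨C ((↑(u⁻¹) : Vp) ^ n) * φ f, ?_⟩
    rw [map_mul, hcomp, hwn, ← MvPolynomial.algebraMap_eq, AlgHom.commutes, ← hφA, ← hu,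
      ← mul_assoc, ← map_pow, ← map_mul, ← mul_pow, Units.inv_mul, one_pow, map_one, one_mul]
  have hkerfg : (RingHom.ker π'.toRingHom).FG :=
    Algebra.FinitePresentation.ker_fG_of_surjective π' hπ'
  set I : Ideal (MvPolynomial (Fin m) V) := RingHom.ker (π : MvPolynomial (Fin m) V →+* W) with hI
  have hIloc : IsLocalization (p.primeCompl.map (C : V →+* MvPolynomial (Fin m) V))
      (MvPolynomial (Fin m) Vp) := MvPolynomial.isLocalization p.primeCompl Vp
  have hker : RingHom.ker π'.toRingHom = I.map φ := by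
    apply le_antisymm
    · intro g hg
      obtain ⟨⟨f, ⟨y, hy⟩⟩, h⟩ := IsLocalization.surj
        (p.primeCompl.map (C : V →+* MvPolynomial (Fin m) V)) g
      obtain ⟨x, hx, rfl⟩ := hy
      simp only [MvPolynomial.algebraMap_def] at h
      change g * φ (C x) = φ f at h
      have hfI : f ∈ I := by
        rw [hI, RingHom.mem_ker]
        apply hPinj
        change ι (π f) = ι 0
        rw [← hcomp, ← h, map_mul, map_zero]
        have : π' g = 0 := hg
        rw [this, zero_mul]
      have hxu : IsUnit (φ (C x)) := by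
        simp only [φ, MvPolynomial.map_C]
        exact (IsLocalization.map_units Vp (⟨x, hx⟩ : p.primeCompl)).map C
      obtain ⟨ux, hux⟩ := hxu
      have : g = ↑(ux⁻¹) * φ f := by
        rw [← h, ← hux, mul_comm g, ← mul_assoc, Units.inv_mul, one_mul]
      rw [this]
      exact Ideal.mul_mem_left _ _ (Ideal.mem_map_of_mem _ hfI)
    · rw [Ideal.map_le_iff_le_comap]
      intro f hf
      rw [Ideal.mem_comap, RingHom.mem_ker]
      change π' (φ f) = 0
      rw [hcomp]
      have : π f = 0 := hf
      rw [this, map_zero]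
  rw [hker] at hkerfg
  obtain ⟨F, hFI, hFmap⟩ := exists_finset_map_eq φ I hkerfg
  refine ⟨F, fun f hf => hFI hf, ?_⟩
  intro f hf
  have hfI : f ∈ I := hf
  have h1 : φ f ∈ (Ideal.span (F : Set (MvPolynomial (Fin m) V))).map φ := by
    rw [hFmap]; exact Ideal.mem_map_of_mem _ hfI
  have h2 : φ = algebraMap (MvPolynomial (Fin m) V) (MvPolynomial (Fin m) Vp) := rfl
  rw [h2, IsLocalization.mem_map_algebraMap_iff
    (p.primeCompl.map (C : V →+* MvPolynomial (Fin m) V))] at h1
  obtain ⟨⟨⟨g, hg⟩, ⟨y, hy⟩⟩, h⟩ := h1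
  obtain ⟨x, hx, rfl⟩ := hy
  simp only at h
  rw [← h2, ← map_mul] at h
  have h3 : f * C x = g := hφinj h
  obtain ⟨n, c, hc⟩ := hsdvd x hx
  refine ⟨n, ?_⟩
  have : C (s ^ n) * f = C c * g := by
    rw [← h3, hc, C_mul]; ring
  rw [this]
  exact Ideal.mul_mem_left _ _ hg

end Glue

end Groth.Agent.Helper9.ValEt
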