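import Mathlib
import Groth.Agent.Lib.Helper9.ValEt.Core5

/-!
# Gluing étaleness for valuation rings: finite presentation (quotient part and conclusion)
-/

namespace Groth.Agent.Helper9.ValEt

universe u

open MvPolynomial

section Glue

variable {V W : Type u} [CommRing V] [IsDomain V] [ValuationRing V]
  [CommRing W] [IsDomain W] [Algebra V W]

omit [IsDomain V] [ValuationRing V] [IsDomain W] in
/-- quotient part -/
theorem exists_finset_quot {m : ℕ} (π : MvPolynomial (Fin m) V →ₐ[V] W)
    (P : Ideal W) (p : Ideal V)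
    (hF3 : P = p.map (algebraMap V W))
    (hπ : Function.Surjective π)
    [Algebra (V ⧸ p) (W ⧸ P)]
    (hφB : ∀ v, algebraMap (V ⧸ p) (W ⧸ P) (Ideal.Quotient.mk p v) =
      Ideal.Quotient.mk P (algebraMap V W v))
    [Algebra.FinitePresentation (V ⧸ p) (W ⧸ P)] :
    ∃ F : Finset (MvPolynomial (Fin m) V), (∀ f ∈ F, π f = 0) ∧
      ∀ f, π f = 0 → ∃ g ∈ Ideal.span (F : Set (MvPolynomial (Fin m) V)),
        f - g ∈ p.map (C : V →+* MvPolynomial (Fin m) V) := by
  classical
  let ψ : MvPolynomial (Fin m) V →+* MvPolynomial (Fin m) (V ⧸ p) :=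
    MvPolynomial.map (Ideal.Quotient.mk p)
  have hψ : Function.Surjective ψ := MvPolynomial.map_surjective _ Ideal.Quotient.mk_surjective
  have hkerψ : RingHom.ker ψ = p.map (C : V →+* MvPolynomial (Fin m) V) := by
    rw [MvPolynomial.ker_map, Ideal.mk_ker]
  let π' : MvPolynomial (Fin m) (V ⧸ p) →ₐ[V ⧸ p] W ⧸ P :=
    aeval (fun i => Ideal.Quotient.mk P (π (X i)))
  have hcomp : ∀ f, π' (ψ f) = Ideal.Quotient.mk P (π f) := by
    intro f
    have : (π' : MvPolynomial (Fin m) (V ⧸ p) →+* W ⧸ P).comp ψ =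
        (Ideal.Quotient.mk P).comp (π : MvPolynomial (Fin m) V →+* W) := by
      apply MvPolynomial.ringHom_ext
      · intro a
        simp only [RingHom.comp_apply, ψ, π', MvPolynomial.map_C, RingHom.coe_coe, aeval_C]
        rw [hφB, ← MvPolynomial.algebraMap_eq, AlgHom.commutes]
      · intro i
        simp only [RingHom.comp_apply, ψ, π', MvPolynomial.map_X, RingHom.coe_coe, aeval_X]
    exact congrArg (fun g => g f) this
  have hπ' : Function.Surjective π' := by
    intro z
    obtain ⟨w, rfl⟩ := Ideal.Quotient.mk_surjective z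
    obtain ⟨f, rfl⟩ := hπ w
    exact ⟨ψ f, hcomp f⟩
  have hkerfg : (RingHom.ker π'.toRingHom).FG :=
    Algebra.FinitePresentation.ker_fG_of_surjective π' hπ'
  set I : Ideal (MvPolynomial (Fin m) V) := RingHom.ker (π : MvPolynomial (Fin m) V →+* W) with hI
  have hker : RingHom.ker π'.toRingHom = I.map ψ := by
    apply le_antisymm
    · intro g' hg'
      obtain ⟨g, rfl⟩ := hψ g'
      have h1 : π' (ψ g) = 0 := hg'
      rw [hcomp, Ideal.Quotient.eq_zero_iff_mem, hF3] at h1
      obtain ⟨h, hh, hπh⟩ := exists_lift_mem_map_C π hπ p _ h1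
      have h2 : g - h ∈ I := by
        rw [hI, RingHom.mem_ker]
        change π (g - h) = 0
        rw [map_sub, hπh, sub_self]
      have h3 : ψ h = 0 := by
        rw [← RingHom.mem_ker, hkerψ]; exact hh
      have : ψ g = ψ (g - h) := by rw [map_sub, h3, sub_zero]
      rw [this]
      exact Ideal.mem_map_of_mem _ h2
    · rw [Ideal.map_le_iff_le_comap]
      intro f hf
      rw [Ideal.mem_comap, RingHom.mem_ker]
      change π' (ψ f) = 0
      rw [hcomp]
      have : π f = 0 := hf
      rw [this, map_zero]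
  rw [hker] at hkerfg
  obtain ⟨F, hFI, hFmap⟩ := exists_finset_map_eq ψ I hkerfg
  refine ⟨F, fun f hf => hFI hf, ?_⟩
  intro f hf
  have hfI : f ∈ I := hf
  have h1 : ψ f ∈ (Ideal.span (F : Set (MvPolynomial (Fin m) V))).map ψ := by
    rw [hFmap]; exact Ideal.mem_map_of_mem _ hfI
  rw [Ideal.mem_map_iff_of_surjective ψ hψ] at h1
  obtain ⟨g, hg, hgf⟩ := h1
  refine ⟨g, hg, ?_⟩
  rw [← hkerψ, RingHom.mem_ker, map_sub, hgf, sub_self]

theorem finitePresentation_of_glue
    (hinj : Function.Injective (algebraMap V W))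
    (P : Ideal W) [P.IsPrime] (p : Ideal V) [p.IsPrime]
    (s : V) (hs : s ∉ p) (hsdvd : ∀ x ∉ p, ∃ n : ℕ, x ∣ s ^ n)
    (hF1 : ∀ y ∉ P, ∃ n : ℕ, y ∣ (algebraMap V W s) ^ n)
    (hF3 : P = p.map (algebraMap V W))
    [Algebra (Localization.AtPrime p) (Localization.AtPrime P)]
    (hφA : ∀ v, algebraMap (Localization.AtPrime p) (Localization.AtPrime P)
      (algebraMap V _ v) = algebraMap W _ (algebraMap V W v))
    [Algebra.FinitePresentation (Localization.AtPrime p) (Localization.AtPrime P)]
    [Algebra (V ⧸ p) (W ⧸ P)]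
    (hφB : ∀ v, algebraMap (V ⧸ p) (W ⧸ P) (Ideal.Quotient.mk p v) =
      Ideal.Quotient.mk P (algebraMap V W v))
    [Algebra.FinitePresentation (V ⧸ p) (W ⧸ P)] :
    Algebra.FinitePresentation V W := by
  classical
  have hft : Algebra.FiniteType V W := finiteType_of_glue P p s hs hsdvd hF1 hF3 hφA hφB
  obtain ⟨m, π, hπ⟩ := Algebra.FiniteType.iff_quotient_mvPolynomial''.mp hft
  have hpinj : Function.Injective (algebraMap V (Localization.AtPrime p)) :=
    IsLocalization.injective (Localization.AtPrime p) p.primeCompl_le_nonZeroDivisors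
  have hPinj : Function.Injective (algebraMap W (Localization.AtPrime P)) :=
    IsLocalization.injective (Localization.AtPrime P) P.primeCompl_le_nonZeroDivisors
  obtain ⟨F1, hF1I, hF1s⟩ := exists_finset_loc π P p hpinj hPinj s hs hsdvd hF1 hπ hφA
  obtain ⟨F2, hF2I, hF2s⟩ := exists_finset_quot π P p hF3 hπ hφB
  have hdiv : Divisible s p := divisible_of_notMem p s hs
  apply Algebra.FinitePresentation.of_surjective hπ
  refine ⟨F1 ∪ F2, ?_⟩
  apply le_antisymm
  · rw [Ideal.span_le]
    intro f hf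
    rw [Finset.mem_coe, Finset.mem_union] at hf
    rcases hf with hf | hf
    · exact hF1I f hf
    · exact hF2I f hf
  · intro f hf
    have hf0 : π f = 0 := hf
    obtain ⟨g, hg, hfg⟩ := hF2s f hf0
    have hgI : π g = 0 := by
      have : Ideal.span (F2 : Set (MvPolynomial (Fin m) V)) ≤
          RingHom.ker (π : MvPolynomial (Fin m) V →+* W) := by
        rw [Ideal.span_le]
        intro x hx
        exact hF2I x hx
      exact this hg
    have hfg0 : π (f - g) = 0 := by rw [map_sub, hf0, hgI, sub_self]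
    obtain ⟨a, ha, h', hh', hfac⟩ := exists_factor π hinj p (f - g) hfg hfg0
    obtain ⟨n, hn⟩ := hF1s h' hh'
    obtain ⟨a', -, rfl⟩ := hdiv.pow n a ha
    have hle1 : Ideal.span (F1 : Set (MvPolynomial (Fin m) V)) ≤
        Ideal.span ((F1 ∪ F2 : Finset _) : Set (MvPolynomial (Fin m) V)) := by
      apply Ideal.span_mono
      rw [Finset.coe_union]; exact Set.subset_union_left
    have hle2 : Ideal.span (F2 : Set (MvPolynomial (Fin m) V)) ≤
        Ideal.span ((F1 ∪ F2 : Finset _) : Set (MvPolynomial (Fin m) V)) := by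
      apply Ideal.span_mono
      rw [Finset.coe_union]; exact Set.subset_union_right
    have : f = g + C a' * (C (s ^ n) * h') := by
      have : f = g + (f - g) := by ring
      rw [this, hfac, C_mul]; ring
    rw [this]
    change _ ∈ Ideal.span _
    exact Ideal.add_mem _ (hle2 hg) (Ideal.mul_mem_left _ _ (hle1 hn))

end Glue

end Groth.Agent.Helper9.ValEt
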