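import Mathlib
import Groth.Agent.Lib.Helper9.ValEt.Core6

/-!
# Gluing étaleness for valuation rings: formally unramified
-/

namespace Groth.Agent.Helper9.ValEt

universe u

open TensorProduct KaehlerDifferential

section Glue

variable {V W : Type u} [CommRing V] [IsDomain V] [ValuationRing V]
  [CommRing W] [IsDomain W] [Algebra V W]

omit [IsDomain W] in
theorem formallyUnramified_of_glue
    (P : Ideal W) [P.IsPrime] (p : Ideal V) [p.IsPrime]
    (s : V) (hs : s ∉ p)
    (hF1 : ∀ y ∉ P, ∃ n : ℕ, y ∣ (algebraMap V W s) ^ n)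
    (hF3 : P = p.map (algebraMap V W))
    [Algebra (Localization.AtPrime p) (Localization.AtPrime P)]
    (hφA : ∀ v, algebraMap (Localization.AtPrime p) (Localization.AtPrime P)
      (algebraMap V _ v) = algebraMap W _ (algebraMap V W v))
    [Algebra.FormallyUnramified (Localization.AtPrime p) (Localization.AtPrime P)]
    [Algebra (V ⧸ p) (W ⧸ P)]
    (hφB : ∀ v, algebraMap (V ⧸ p) (W ⧸ P) (Ideal.Quotient.mk p v) =
      Ideal.Quotient.mk P (algebraMap V W v))
    [Algebra.FormallyUnramified (V ⧸ p) (W ⧸ P)]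
    [Algebra.FiniteType V W] :
    Algebra.FormallyUnramified V W := by
  classical
  set σ := algebraMap V W s with hσdef
  -- Step 1
  have hst1 : IsScalarTower V (Localization.AtPrime p) (Localization.AtPrime P) :=
    IsScalarTower.of_algebraMap_eq (fun v => by
      rw [hφA, ← IsScalarTower.algebraMap_apply V W (Localization.AtPrime P)])
  have hfu1 : Algebra.FormallyUnramified V (Localization.AtPrime p) :=
    Algebra.FormallyUnramified.of_isLocalization p.primeCompl
  have hfu2 : Algebra.FormallyUnramified V (Localization.AtPrime P) :=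
    Algebra.FormallyUnramified.comp V (Localization.AtPrime p) (Localization.AtPrime P)
  have hsub1 : Subsingleton Ω[(Localization.AtPrime P)⁄V] := inferInstance
  -- Step 2
  have hloc : IsLocalizedModule P.primeCompl (KaehlerDifferential.map V V W (Localization.AtPrime P)) :=
    KaehlerDifferential.isLocalizedModule_map V W (Localization.AtPrime P) P.primeCompl
  have h2 : ∀ ω : Ω[W⁄V], ∃ n : ℕ, σ ^ n • ω = 0 := by
    intro ω
    have : KaehlerDifferential.map V V W (Localization.AtPrime P) ω =
        KaehlerDifferential.map V V W (Localization.AtPrime P) 0 := Subsingleton.elim _ _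
    obtain ⟨⟨c, hc⟩, hcω⟩ := IsLocalizedModule.exists_of_eq (S := P.primeCompl) this
    rw [smul_zero, Submonoid.smul_def] at hcω
    simp only at hcω
    obtain ⟨n, d, hd⟩ := hF1 c hc
    refine ⟨n, ?_⟩
    rw [hd, mul_comm, mul_smul, hcω, smul_zero]
  -- Step 3
  have hfin : Module.Finite W Ω[W⁄V] := inferInstance
  obtain ⟨G, hG⟩ := hfin.fg_top
  choose nOf hnOf using h2
  let N := G.sup nOf
  have h3 : ∀ ω : Ω[W⁄V], σ ^ N • ω = 0 := by
    intro ω
    have hω : ω ∈ Submodule.span W (G : Set Ω[W⁄V]) := by rw [hG]; trivial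
    induction hω using Submodule.span_induction with
    | mem x hx =>
      have hle : nOf x ≤ N := Finset.le_sup (f := nOf) hx
      obtain ⟨k, hk⟩ := Nat.exists_eq_add_of_le hle
      rw [hk, pow_add, mul_comm, mul_smul, hnOf, smul_zero]
    | zero => exact smul_zero _
    | add x y _ _ hx hy => rw [smul_add, hx, hy, add_zero]
    | smul a x _ hx => rw [smul_comm, hx, smul_zero]
  -- Step 4
  have hdiv : Divisible s p := divisible_of_notMem p s hs
  have h4 : ∀ x ∈ P, D V W x = 0 := by
    intro x hx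
    have hx' : x ∈ p • (⊤ : Submodule V W) := by
      rw [Ideal.smul_top_eq_map, ← hF3]; exact hx
    obtain ⟨x', -, rfl⟩ := hdiv.smul_top N x hx'
    rw [Algebra.smul_def, Derivation.leibniz, Derivation.map_algebraMap, smul_zero, add_zero,
      map_pow, h3]
  -- Step 5
  have hst2 : IsScalarTower V (V ⧸ p) (W ⧸ P) :=
    IsScalarTower.of_algebraMap_eq (fun v => by
      rw [IsScalarTower.algebraMap_apply V W (W ⧸ P)]
      exact (hφB v).symm)
  have hfu3 : Algebra.FormallyUnramified V (V ⧸ p) :=
    Algebra.FormallyUnramified.of_surjective (Algebra.ofId V (V ⧸ p)) Ideal.Quotient.mk_surjective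
  have hfu4 : Algebra.FormallyUnramified V (W ⧸ P) :=
    Algebra.FormallyUnramified.comp V (V ⧸ p) (W ⧸ P)
  have hsub2 : Subsingleton Ω[(W ⧸ P)⁄V] := inferInstance
  -- Step 6
  have h6 : Subsingleton ((W ⧸ P) ⊗[W] Ω[W⁄V]) := by
    refine subsingleton_of_forall_eq 0 fun x => ?_
    obtain ⟨x, rfl⟩ := (KaehlerDifferential.exact_kerCotangentToTensor_mapBaseChange V W
      (W ⧸ P) Ideal.Quotient.mk_surjective x).mp (Subsingleton.elim _ _)
    obtain ⟨⟨x, hx⟩, rfl⟩ := Ideal.toCotangent_surjective _ x
    simp only [KaehlerDifferential.kerCotangentToTensor_toCotangent]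
    have hxP : x ∈ P := by
      have : x ∈ RingHom.ker (Ideal.Quotient.mk P) := hx
      rwa [Ideal.mk_ker] at this
    rw [h4 x hxP, tmul_zero]
  -- Step 7
  have h7 : P • (⊤ : Submodule W Ω[W⁄V]) = ⊤ := by
    have e := TensorProduct.quotTensorEquivQuotSMul Ω[W⁄V] P
    have : Subsingleton (Ω[W⁄V] ⧸ (P • (⊤ : Submodule W Ω[W⁄V]))) := e.symm.subsingleton
    exact Submodule.Quotient.subsingleton_iff.mp this
  -- Step 8
  have hdivP : Divisible σ P := by
    intro a ha
    have ha' : a ∈ p • (⊤ : Submodule V W) := by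
      rw [Ideal.smul_top_eq_map, ← hF3]; exact ha
    obtain ⟨a', ha'', rfl⟩ := hdiv.smul_top 1 a ha'
    refine ⟨a', ?_, ?_⟩
    · rw [Ideal.smul_top_eq_map, ← hF3] at ha''; exact ha''
    · rw [pow_one, Algebra.smul_def]
  constructor
  refine subsingleton_of_forall_eq 0 fun ω => ?_
  have hω : ω ∈ P • (⊤ : Submodule W Ω[W⁄V]) := by rw [h7]; trivial
  obtain ⟨ω', -, rfl⟩ := hdivP.smul_top N ω hω
  exact h3 ω'

end Glue

end Groth.Agent.Helper9.ValEt
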