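import Mathlib
import Groth.Agent.Lib.Helper9.ValEt.Core7

/-!
# Gluing étaleness for valuation rings: flatness and the main theorem
-/

namespace Groth.Agent.Helper9.ValEt

universe u

section Glue

variable {V W : Type u} [CommRing V] [IsDomain V] [ValuationRing V]
  [CommRing W] [IsDomain W] [Algebra V W]

theorem flat_of_injective (hinj : Function.Injective (algebraMap V W)) : Module.Flat V W := by
  rw [Module.Flat.flat_iff_torsion_eq_bot_of_isBezout, eq_bot_iff]
  rintro w ⟨⟨r, hr⟩, h⟩
  simp only [Submonoid.mk_smul] at h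
  rw [Algebra.smul_def] at h
  rcases mul_eq_zero.mp h with h | h
  · have : r = 0 := hinj (h.trans (map_zero _).symm)
    exact absurd this (nonZeroDivisors.ne_zero hr)
  · exact h

theorem etale_of_glue [ValuationRing W] [Finite (PrimeSpectrum V)]
    (hinj : Function.Injective (algebraMap V W))
    (P : Ideal W) [P.IsPrime] (p : Ideal V) [p.IsPrime] (hp : P.comap (algebraMap V W) = p)
    (φA : Localization.AtPrime p →+* Localization.AtPrime P)
    (hφA : ∀ v, φA (algebraMap V _ v) = algebraMap W _ (algebraMap V W v)) (hA : φA.Etale)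
    (φB : V ⧸ p →+* W ⧸ P)
    (hφB : ∀ v, φB (Ideal.Quotient.mk p v) = Ideal.Quotient.mk P (algebraMap V W v))
    (hB : φB.Etale) :
    Algebra.Etale V W := by
  obtain ⟨s, hs, hsdvd⟩ := exists_dvd_pow V p
  have hF1 := dvd_pow_of_notMem hinj P p hp s hs hsdvd φB hφB hB
  have hF3 := eq_map_of_etale hinj P p hp s hs hF1 φA hφA hA
  algebraize [φA, φB]
  have hfp : Algebra.FinitePresentation V W :=
    finitePresentation_of_glue hinj P p s hs hsdvd hF1 hF3 hφA hφB
  have hft : Algebra.FiniteType V W := inferInstance
  have hfu : Algebra.FormallyUnramified V W :=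
    formallyUnramified_of_glue P p s hs hF1 hF3 hφA hφB
  have hflat : Module.Flat V W := flat_of_injective hinj
  exact Algebra.Etale.of_formallyUnramified_of_flat

end Glue

end Groth.Agent.Helper9.ValEt
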